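import Mathlib
import Cfsg.Agent.Lib.Helper51.EA38.Defs

/-!
# S1338, package (Q5) `LemSmall` (helper66)

If `W` is a normal elementary abelian subgroup of order at most `9` of a finite `3`-group `P`
containing every element of order dividing `3` of its centralizer, then every elementary
abelian subgroup of `P` has order at most `27`.
-/

set_option autoImplicit false

namespace Cfsg.Agent.Lib.Helper66.EA38

open Cfsg.Agent.Lib.Helper51.EA38

universe u

/-- An elementary abelian subgroup centralizing `W` lies in `W` (under `OmegaCent`). -/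
theorem le_of_centralizes {P : Type u} [Group P] {W E : Subgroup P}
    (hΩ : OmegaCent 3 W) (hE : Cfsg.IsElementaryAbelian 3 E)
    (hc : ∀ e ∈ E, ∀ w ∈ W, e * w = w * e) : E ≤ W :=
  fun e he => hΩ e (hc e he) (hE.2 e he)

/-- Package (Q5) of S1338. -/
theorem lemSmall (hC : LemChain.{u}) (hS : LemStep.{u}) : LemSmall.{u} := by
  intro P _ _ hP W hWn hWea hΩ hW9 E hE
  have h3 : Fact (Nat.Prime 3) := ⟨Nat.prime_three⟩
  obtain ⟨n, hn⟩ := IsPGroup.iff_card.mp (hP.to_subgroup W)
  have hn2 : n ≤ 2 := by
    by_contra hcon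
    push Not at hcon
    have : 3 ^ 3 ≤ 3 ^ n := Nat.pow_le_pow_right (by norm_num) hcon
    omega
  -- reduction: it suffices to bound `E` when `E ≤ W`
  have hsub : E ≤ W → Nat.card E ≤ 27 := by
    intro h
    have := Subgroup.card_le_of_le h
    omega
  interval_cases n
  · -- `|W| = 1`
    apply hsub
    apply le_of_centralizes hΩ hE
    intro e _ w hw
    have hw1 : w = 1 := by
      have hWbot : W = ⊥ := Subgroup.card_eq_one.mp (by simpa using hn)
      rw [hWbot] at hw
      exact Subgroup.mem_bot.mp hw
    rw [hw1, mul_one, one_mul]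
  · -- `|W| = 3`: `W` is central
    obtain ⟨M, hMW, hMn, hMc, hMcomm⟩ := hC (p := 3) hP W 0 hWn (by simpa using hn)
    have hMbot : M = ⊥ := Subgroup.card_eq_one.mp (by simpa using hMc)
    apply hsub
    apply le_of_centralizes hΩ hE
    intro e _ w hw
    have h1 := hMcomm w hw e
    rw [hMbot, Subgroup.mem_bot] at h1
    -- `e * w * e⁻¹ * w⁻¹ = 1`
    have h2 : e * w * e⁻¹ = w := by
      have := mul_inv_eq_one.mp h1
      exact this
    calc e * w = e * w * e⁻¹ * e := by group
      _ = w * e := by rw [h2]
  · -- `|W| = 9`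
    obtain ⟨W₁, hW₁W, hW₁n, hW₁c, hW₁comm⟩ := hC (p := 3) hP W 1 hWn (by simpa using hn)
    obtain ⟨M, hMW, hMn, hMc, hMcomm⟩ := hC (p := 3) hP W₁ 0 hW₁n (by simpa using hW₁c)
    have hMbot : M = ⊥ := Subgroup.card_eq_one.mp (by simpa using hMc)
    -- `W₁` is central
    have hW₁cent : ∀ z ∈ W₁, ∀ g : P, g * z = z * g := by
      intro z hz g
      have h1 := hMcomm z hz g
      rw [hMbot, Subgroup.mem_bot] at h1
      have h2 : g * z * g⁻¹ = z := mul_inv_eq_one.mp h1
      calc g * z = g * z * g⁻¹ * g := by group
        _ = z * g := by rw [h2]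
    have hW₁card : Nat.card W₁ = 3 := by simpa using hW₁c
    have hWcard : Nat.card W = 9 := by simpa using hn
    -- pick `w ∈ W \ W₁`
    have hne : ¬ W ≤ W₁ := by
      intro h
      have := Subgroup.card_le_of_le h
      omega
    obtain ⟨w, hwW, hwW₁⟩ := SetLike.not_le_iff_exists.mp hne
    -- the step inequality
    have hstep := hS E W₁ w
      (by
        intro a _
        have h1 := hW₁comm w hwW a
        have h2 : w * a * w⁻¹ * a⁻¹ = (a * w * a⁻¹ * w⁻¹)⁻¹ := by group
        rw [h2]
        exact W₁.inv_mem h1)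
      (by
        intro a _ z hz
        exact hW₁cent z hz a)
    -- `E ⊓ C(w) ≤ W`
    have hle : E ⊓ Subgroup.centralizer {w} ≤ W := by
      intro e he
      have heE : e ∈ E := (Subgroup.mem_inf.mp he).1
      have hew : e * w = w * e := by
        have := Subgroup.mem_centralizer_iff.mp (Subgroup.mem_inf.mp he).2 w (Set.mem_singleton w)
        exact this.symm
      apply hΩ e _ (hE.2 e heE)
      -- `e` centralizes `W`
      set X : Subgroup P := W ⊓ Subgroup.centralizer {e} with hX
      have hW₁X : W₁ ≤ X := by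
        intro z hz
        refine Subgroup.mem_inf.mpr ⟨hW₁W hz, ?_⟩
        rw [Subgroup.mem_centralizer_iff]
        intro y hy
        rw [Set.mem_singleton_iff] at hy
        subst hy
        exact hW₁cent z hz y
      have hwX : w ∈ X := by
        refine Subgroup.mem_inf.mpr ⟨hwW, ?_⟩
        rw [Subgroup.mem_centralizer_iff]
        intro y hy
        rw [Set.mem_singleton_iff] at hy
        subst hy
        exact hew
      have hXW : X ≤ W := inf_le_left
      have hXcard : Nat.card X = 9 := by
        have hd1 : Nat.card X ∣ 9 := by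
          rw [← hWcard]; exact Subgroup.card_dvd_of_le hXW
        have hd2 : 3 ∣ Nat.card X := by
          rw [← hW₁card]; exact Subgroup.card_dvd_of_le hW₁X
        have hne3 : Nat.card X ≠ 3 := by
          intro h3'
          have : W₁ = X := Subgroup.eq_of_le_of_card_ge hW₁X (by omega)
          exact hwW₁ (this ▸ hwX)
        have hle9 : Nat.card X ≤ 9 := Nat.le_of_dvd (by norm_num) hd1
        interval_cases hc : Nat.card X <;> simp_all
      have hXeq : X = W := Subgroup.eq_of_le_of_card_ge hXW (by omega)
      intro v hv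
      have hvX : v ∈ X := hXeq ▸ hv
      have := Subgroup.mem_centralizer_iff.mp (Subgroup.mem_inf.mp hvX).2 e (Set.mem_singleton e)
      exact this
    have h9 : Nat.card ↥(E ⊓ Subgroup.centralizer {w}) ≤ 9 := by
      have := Subgroup.card_le_of_le hle
      omega
    calc Nat.card E ≤ Nat.card W₁ * Nat.card ↥(E ⊓ Subgroup.centralizer {w}) := hstep
      _ ≤ 3 * 9 := by rw [hW₁card]; exact Nat.mul_le_mul_left 3 h9
      _ = 27 := by norm_num

end Cfsg.Agent.Lib.Helper66.EA38
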